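import Cfsg.Agent.Mrg.Omega.F4Leaf.TSyl.Frame
import Cfsg.Agent.Mrg.Omega.F4Leaf.Syl.OtT
import Cfsg.Agent.Mrg.Omega.F4Leaf.Syl.LEone
import Cfsg.Agent.Mrg.Omega.HOneTwo.Basic
import Cfsg.Agent.Mrg.Omega.HTwo.Entry
import Cfsg.Agent.Mrg.Omega.IId.Match

section


/-!
# LeafF4, `m ≥ 3`, MemH2, pure case, `n = r_ij` not 2-central (bb OMEGA #21478, piece D)

Over `Fr S P m A ε i j T` (`T` Sylow in `C_G(n)`, `C_S(n) ≤ T ≤ N(V_l)`, partner):

* `Fr.otln` : the structure `OtT.Ln`; `Fr.le` : LE or (H2); `Fr.sig` : `Sig V_l R 0 c` implies `c n = v z_0`;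
* `Fr.two` : two different elements of `Z₀#`, if `n` is not 2-central and `|Ω₁Z(S)| ≥ 4`;
* `Fr.h2` : (H2).
-/

set_option autoImplicit false
set_option linter.dupNamespace false

namespace Cfsg.Agent.Omega.F4Leaf.TSyl

open Subgroup Pointwise Cfsg Cfsg.Agent Cfsg.Agent.Omega.MinPar
open Cfsg.Agent.ZN (o2 zc zl)
open Cfsg.Agent.Omega.FrameFF (cv)
open Cfsg.Agent.Omega.S5.Def Cfsg.Agent.Omega.S5.Syl Cfsg.Agent.Omega.F4Leaf.Def
open Cfsg.Agent.Omega.S5.SymBig (H2)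
open Cfsg.Agent.Omega.F4Leaf.Pos Cfsg.Agent.Omega.F4Leaf.Facts
open Cfsg.Agent.Omega.NSix.Base Cfsg.Agent.Omega.NSix.Basic Cfsg.Agent.Omega.NSix.FixApp
open Cfsg.Agent.Omega.NSix.RThree (acts_swap')
open Cfsg.Agent.Omega.NSix.Zero (WP mem_WP WP_norm WP_conj)
open Cfsg.Agent.Omega.HT.LineOf (Ln ln pts dd)
open Cfsg.Agent.Omega.BTwo (BT BTS XX CenX QQ)
open Cfsg.Agent.Omega.F4Leaf.Syl
open Cfsg.Agent.Omega.HTwo.ThmA (LE)
open Cfsg.Agent.Omega.HTwo.Hat (ZQ)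
open Cfsg.Agent.MinSimple.VModule (o2_isPGroup o2_le le_o2 le_normalizer_o2 o2_le_of_sylow mem_zc zc_le
  le_normalizer_zl zl_comm zl_sq)

universe u

variable {G : Type u} [Group G] [Finite G] {S : Sylow 2 G} {P : Subgroup G} {m : ℕ} {A : Subgroup G}
  {ε : (Fin (2 ^ m + 1) → ZMod 2) → G} {i j : Fin (2 ^ m + 1)} {T : Subgroup G}

section sit

variable (h : Sit S P m A ε) (hij : i ≠ j) (hi : i ≠ 0) (hj : j ≠ 0)
include h

/-- `v ε x` (`v ∈ V₀`) with `x i = x j = x 0` is centralised by `X` -/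
theorem mem_CenX {v : G} (hv : v ∈ cv (S : Subgroup G) P) {x : Fin (2 ^ m + 1) → ZMod 2} (h1 : x i = x j)
    (h2 : x i = x 0) (hP : Part A ε i j) :
    v * ε x ∈ CenX (ln (line h hij hi hj)) (pts (rr ε i j) (rr ε i 0)) := by
  have b := bt h hij hi hj hP
  rw [mem_centralizer_iff]
  intro g hg
  have hle : XX (ln (line h hij hi hj)) (pts (rr ε i j) (rr ε i 0)) ≤ centralizer ({v * ε x} : Set G) := by
    refine iSup_le fun s w hw => ?_
    obtain ⟨a, c, -, hac, -, -, e, -, ha, hc⟩ := dd_cases h hij hi hj s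
    have h3 : w ∈ o2 (NN ε a c) := by
      have h3 := b.W_le_Q s hw
      change w ∈ o2 (normalizer (pts (rr ε i j) (rr ε i 0) s : Set G)) at h3
      rw [(line h hij hi hj).normalizer_pts s, e] at h3
      exact h3
    have hval : ∀ d, (d = i ∨ d = j ∨ d = 0) → x d = x i := by
      rintro d (rfl | rfl | rfl)
      · rfl
      · exact h1.symm
      · exact h2.symm
    have h4 := comm_Q h hac (x := x) (by rw [hval a ha, hval c hc]) h3
    have h5 := h.comm_V0 hac h3 hv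
    rw [mem_centralizer_singleton_iff, ← mul_assoc, h5, mul_assoc, h4, mul_assoc]
  exact mem_centralizer_singleton_iff.1 (hle hg)

/-- the elements of `V_P` centralised by an element acting as `(i j)` -/
theorem dec (hP : Part A ε i j) {z : G} (hz : z ∈ zl (S : Subgroup G) P) {w : G} (hwP : w ∈ P)
    (hw : Acts ε w (Equiv.swap i j)) (hwz : w * z = z * w) :
    z ∈ CenX (ln (line h hij hi hj)) (pts (rr ε i j) (rr ε i 0)) ∨
      z * rr ε i j ∈ CenX (ln (line h hij hi hj)) (pts (rr ε i j) (rr ε i 0)) := by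
  have hE := h.split.even
  obtain ⟨v, hv, a, ha, rfl⟩ := h.mul_eq hz
  obtain ⟨x, rfl⟩ := hE.surj a ha
  have hvw := h.V0_comm hv hwP
  have h1 : w * ε x = ε x * w := by
    apply mul_left_cancel (a := v)
    calc v * (w * ε x) = w * (v * ε x) := by rw [← mul_assoc, ← hvw, mul_assoc]
      _ = v * ε x * w := hwz
      _ = v * (ε x * w) := mul_assoc _ _ _
  have hxx := Sg.eq_of_fix h hw h1
  have hz2 : ∀ a b : ZMod 2, a ≠ b → a + 1 = b := by decide
  by_cases h2 : x i = x 0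
  · left
    exact mem_CenX h hij hi hj hv hxx h2 hP
  · right
    have e : v * ε x * rr ε i j = v * ε (x + (Pi.single i 1 + Pi.single j 1)) := by
      rw [hE.add, hE.add, mul_assoc]
      rfl
    rw [e]
    refine mem_CenX h hij hi hj hv ?_ ?_ hP
    · simp only [Pi.add_apply, Pi.single_eq_same, Pi.single_eq_of_ne hij, Pi.single_eq_of_ne hij.symm, add_zero,
        zero_add, hxx]
    · simp only [Pi.add_apply, Pi.single_eq_same, Pi.single_eq_of_ne hij, Pi.single_eq_of_ne hi.symm,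
        Pi.single_eq_of_ne hj.symm, add_zero]
      exact hz2 _ _ h2

end sit

namespace Fr

variable (b : Fr S P m A ε i j T)
include b

theorem o2_le_T : o2 P ≤ T := by
  intro x hx
  refine b.le ⟨b.sit.o2_le_S hx, mem_NN.2 ?_⟩
  exact (mem_zc.1 (b.sit.V_le_zc (b.sit.split.A_le (rr_mem b.sit.split.even i j)))).2.1 x hx

/-- the data of `OtT` -/
theorem otln : OtT.Ln S P A ε i j T (ln (line b.sit b.ij b.i0 b.j0)) (pts (rr ε i j) (rr ε i 0)) 0 where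
  sit := b.sit
  mv := b.mov
  ne := b.ij
  bt := bt b.sit b.ij b.i0 b.j0 b.part
  hr _ := (line b.sit b.ij b.i0 b.j0).mem_pts
  pair := by
    rintro v (rfl | ⟨s, rfl⟩) h1
    · exact absurd rfl h1
    · obtain ⟨a, c, -, hac, -, -, e, -⟩ := dd_cases b.sit b.ij b.i0 b.j0 s
      exact ⟨a, c, hac, e⟩
  k := ⟨0, b.i0.symm, b.j0.symm, (line b.sit b.ij b.i0 b.j0).dd_mem 1⟩
  T_p := b.p
  T_N := b.leN
  odd := b.odd
  T_V := b.nrm
  Q_T := b.o2_le_T

/-- **LE or (H2)** -/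
theorem hLE : H2 ε ∨ ∀ l, LE (ln (line b.sit b.ij b.i0 b.j0)) (pts (rr ε i j) (rr ε i 0)) l := by
  have hL := line b.sit b.ij b.i0 b.j0
  refine LEone.le_frame (o := 0) (a1 := 0) (a2 := 1) (a3 := 2) b.sit b.otln.htt.toBTS ?_ b.ij b.i0.symm b.j0.symm
    (hL.dd_mem 0) (hL.dd_mem 1) ?_ ?_ ?_ ?_ ?_ ?_
  · obtain ⟨k, hk, v, hv, w, hw, hne⟩ := b.part
    refine ⟨i, j, b.ij, k * w * k⁻¹, subset_closure ⟨k, hk, w, hw, rfl⟩, fun h1 => hne ?_⟩
    exact mem_centralizer_iff.1 h1 v hv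
  · have := hL.dd_mem 2
    rwa [show dd (rr ε i j) (rr ε i 0) 2 = rr ε j 0 from dd_two b.sit i j] at this
  · exact fun x hx => hL.mem_pts.1 hx
  · exact mem_zpowers _
  · rw [hL.normalizer_pts 0]
    exact le_rfl
  · rw [hL.normalizer_pts 1]
    exact le_rfl
  · rw [hL.normalizer_pts 2, show dd (rr ε i j) (rr ε i 0) 2 = rr ε j 0 from dd_two b.sit i j]
    exact le_rfl

/-- `c n = v z_0` if `Sig V_l R 0 c` -/
theorem sig {c : G} (hc : c ∈ zc T) (hcX : c ∈ CenX (ln (line b.sit b.ij b.i0 b.j0)) (pts (rr ε i j) (rr ε i 0)))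
    (hs : HT.Sig (ln (line b.sit b.ij b.i0 b.j0)) (pts (rr ε i j) (rr ε i 0)) 0 c) :
    ∃ v ∈ cv (S : Subgroup G) P, ∃ k, c * rr ε i j = v * zz ε k := by
  have hL := line b.sit b.ij b.i0 b.j0
  have hE := b.sit.split.even
  obtain ⟨w, hwQ, hw⟩ := b.otln.exists_w
  obtain ⟨k, hk, hkA⟩ := part_pt b.sit b.ij b.part b.i0 b.ij b.j0.symm
  have hN1 : NN ε i 0 = normalizer (pts (rr ε i j) (rr ε i 0) 1 : Set G) := (hL.normalizer_pts 1).symm
  have hxX : k * rr ε i j * k⁻¹ ∈ XX (ln hL) (pts (rr ε i j) (rr ε i 0)) := by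
    refine BTwo.W_le_X _ _ 1 ?_
    have h1 : BTwo.cj k (ln hL) ≤ BTwo.WW (ln hL) (pts (rr ε i j) (rr ε i 0) 1) :=
      BTwo.cj_le_WW (by rw [← hN1]; exact hk)
    exact h1 (BTwo.conj_mem_cj (hL.dd_mem 0))
  have hxP : k * rr ε i j * k⁻¹ ∈ P := b.sit.o2_le_P b.i0
    ((mem_normalizer_iff.1 (le_normalizer_o2 _ hk) _).1 (b.sit.V_le b.i0 (b.sit.split.A_le (rr_mem hE i j))))
  obtain ⟨v, hv, h1⟩ := Sg.sig b.sit b.ij b.i0 b.j0 (fun x => hL.mem_pts) (hL.dd_mem 1) (by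
      rintro v (rfl | ⟨s, rfl⟩)
      · exact Or.inl rfl
      · fin_cases s
        · exact Or.inr (Or.inl rfl)
        · exact Or.inr (Or.inr (Or.inl rfl))
        · exact Or.inr (Or.inr (Or.inr (dd_two b.sit i j)))) (by
      intro v hv
      have h2 := b.sit.vn_cen b.ij hv
      change v ∈ o2 (normalizer (pts (rr ε i j) (rr ε i 0) 0 : Set G)) ⊓
        centralizer (o2 (normalizer (pts (rr ε i j) (rr ε i 0) 0 : Set G)) : Set G)
      rw [hL.normalizer_pts 0]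
      exact ⟨h2.1, mem_centralizer_iff.2 fun x hx => (h2.2 x hx).symm⟩)
    (b.otln.zc_le_zl hc) (b.sit.o2_le_P b.ij hwQ) hw ((mem_zc.1 hc).2.1 w (b.otln.Qn_T hwQ)) hxP hkA
    (mem_centralizer_iff.1 hcX _ hxX) hs
  refine ⟨v, hv, 0, ?_⟩
  rw [h1, mul_assoc, rr_sq hE, mul_one]

/-- **two different elements of `Z₀#`** -/
theorem two (hcv : cv (S : Subgroup G) P ≠ ⊥) (hn : ¬ ∃ T₀ : Sylow 2 G, (T₀ : Subgroup G) ≤ centralizer {rr ε i j}) :
    ∃ x ∈ zc T, ∃ y ∈ zc T, x ∈ CenX (ln (line b.sit b.ij b.i0 b.j0)) (pts (rr ε i j) (rr ε i 0)) ∧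
      y ∈ CenX (ln (line b.sit b.ij b.i0 b.j0)) (pts (rr ε i j) (rr ε i 0)) ∧ x ≠ 1 ∧ y ≠ 1 ∧ x ≠ y := by
  have hE := b.sit.split.even
  obtain ⟨S₁, hS₁⟩ := b.p.exists_le_sylow
  have hr : rr ε i j ∈ zc T := by
    refine mem_zc.2 ⟨b.otln.V_le_T ((line b.sit b.ij b.i0 b.j0).dd_mem 0), fun t ht => b.otln.T_r ht, ?_⟩
    rw [pow_two]; exact rr_sq hE i j
  have hrn : rr ε i j ∉ zc (S₁ : Subgroup G) := fun h1 => hn ⟨S₁, fun x hx => by
    rw [mem_centralizer_singleton_iff]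
    exact (mem_zc.1 h1).2.1 x hx⟩
  have hle : zc (S₁ : Subgroup G) ≤ zc T := by
    intro z hz
    obtain ⟨h1, h2, h3⟩ := mem_zc.1 hz
    have h4 : z ∈ o2 P := b.sit.mem_o2_of_cent fun q hq => (h2 q (hS₁ (b.o2_le_T hq))).symm
    exact mem_zc.2 ⟨b.o2_le_T h4, fun t ht => h2 t (hS₁ ht), h3⟩
  obtain ⟨w, hwQ, hw⟩ := b.otln.exists_w
  have hwP := b.sit.o2_le_P b.ij hwQ
  -- the projection to `Z₀`
  have key : ∀ z ∈ zc (S₁ : Subgroup G), z ≠ 1 → ∃ c ∈ zc T,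
      c ∈ CenX (ln (line b.sit b.ij b.i0 b.j0)) (pts (rr ε i j) (rr ε i 0)) ∧ c ≠ 1 ∧ (c = z ∨ c = z * rr ε i j) := by
    intro z hz hz1
    have h1 := hle hz
    rcases dec b.sit b.ij b.i0 b.j0 b.part (b.otln.zc_le_zl h1) hwP hw ((mem_zc.1 h1).2.1 w (b.otln.Qn_T hwQ))
      with h2 | h2
    · exact ⟨z, h1, h2, hz1, Or.inl rfl⟩
    · refine ⟨z * rr ε i j, mul_mem h1 hr, h2, fun h3 => hrn ?_, Or.inr rfl⟩
      rw [← inv_eq_of_mul_eq_one_right h3]
      exact inv_mem hz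
  -- `|Ω₁Z(S₁)| ≥ 4`
  have hcard : 4 ≤ Nat.card (zc (S₁ : Subgroup G)) := by
    have h1 := b.sit.split.card_zc b.sit.c2 b.sit.par (by have := b.m3; omega)
    have h2 : 2 ≤ Nat.card (cv (S : Subgroup G) P) := by
      have h3 : Nat.card (cv (S : Subgroup G) P) ≠ 1 := fun h4 => hcv (Subgroup.card_eq_one.1 h4)
      have h4 : 0 < Nat.card (cv (S : Subgroup G) P) := Nat.card_pos
      omega
    obtain ⟨g, hg⟩ : ∃ g : G, g • S = S₁ := MulAction.exists_smul_eq G S S₁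
    have h5 : Nat.card (zc (S₁ : Subgroup G)) = Nat.card (zc (S : Subgroup G)) := by
      rw [← hg, NSix.NoTk.coe_smul]
      have h6 : zc (ZN.ChoiceBase.cj g (S : Subgroup G)) = ZN.ChoiceBase.cj g (zc (S : Subgroup G)) :=
        ZN.zc_map (MulAut.conj g).toMonoidHom (MulAut.conj g).injective _
      rw [h6]
      exact ZN.ChoiceBase.card_cj g _
    omega
  obtain ⟨x, y, hx, hy, hx1, hy1, hxy⟩ : ∃ x y : G, x ∈ zc (S₁ : Subgroup G) ∧ y ∈ zc (S₁ : Subgroup G) ∧ x ≠ 1 ∧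
      y ≠ 1 ∧ x ≠ y := by
    obtain ⟨x, hx, hx1⟩ : ∃ x ∈ zc (S₁ : Subgroup G), x ≠ 1 := by
      by_contra h1
      push Not at h1
      have h2 : zc (S₁ : Subgroup G) = ⊥ := (eq_bot_iff_forall _).2 h1
      rw [h2, Subgroup.card_bot] at hcard
      omega
    by_contra h1
    push Not at h1
    have h2 : zc (S₁ : Subgroup G) ≤ zpowers x := by
      intro y hy
      by_cases hy1 : y = 1
      · rw [hy1]; exact one_mem _
      · rw [← h1 x y hx hy hx1 hy1]; exact mem_zpowers x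
    have h3 : x * x = 1 := by rw [← pow_two]; exact (mem_zc.1 hx).2.2
    have h4 := Nat.le_of_dvd Nat.card_pos (card_dvd_of_le h2)
    rw [HT.LineOf.card_zp h3 hx1] at h4
    omega
  obtain ⟨c, hc, hcX, hc1, hcx⟩ := key x hx hx1
  obtain ⟨d, hd, hdX, hd1, hdy⟩ := key y hy hy1
  refine ⟨c, hc, d, hd, hcX, hdX, hc1, hd1, fun hcd => ?_⟩
  have hxy2 : x * y⁻¹ ∈ zc (S₁ : Subgroup G) := mul_mem hx (inv_mem hy)
  have hcomm : ∀ {u : G}, u ∈ zc (S₁ : Subgroup G) → rr ε i j * u = u * rr ε i j := fun {u} hu =>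
    ((mem_zc.1 hr).2.1 u (zc_le _ (hle hu))).symm
  rcases hcx with e1 | e1 <;> rcases hdy with e2 | e2
  · exact hxy (e1.symm.trans (hcd.trans e2))
  · apply hrn
    have h3 : rr ε i j = y⁻¹ * x := by rw [← e1, hcd, e2]; group
    rw [h3]
    exact mul_mem (inv_mem hy) hx
  · apply hrn
    have h3 : rr ε i j = x⁻¹ * y := by rw [← e2, ← hcd, e1]; group
    rw [h3]
    exact mul_mem (inv_mem hx) hy
  · apply hxy
    have h3 : x * rr ε i j = y * rr ε i j := by rw [← e1, hcd, e2]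
    exact mul_right_cancel h3

/-- **(H2), pure case, `n` not 2-central** -/
theorem h2 (hcv : cv (S : Subgroup G) P ≠ ⊥)
    (hn : ¬ ∃ T₀ : Sylow 2 G, (T₀ : Subgroup G) ≤ centralizer {rr ε i j}) : H2 ε := by
  rcases b.hLE with h1 | h1
  · exact h1
  exfalso
  obtain ⟨x, hx, y, hy, hxX, hyX, hx1, hy1, hxy⟩ := b.two hcv hn
  exact hxy (b.otln.main b.m3 h1 (fun c hc hcX hs => b.sig hc hcX hs) x hx hxX y hy hyX hx1 hy1)

end Fr

end Cfsg.Agent.Omega.F4Leaf.TSyl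

end

section


/-!
# LeafF4, `m ≥ 3`, pure case, `n = r_ij` 2-central: the position `HTwo.Entry.Pos` (helper816)

Over `Fr S P m A ε i j T`, `n` 2-central: `T` is a Sylow 2-subgroup of `G` and `Fr.otln.htt` gives the position.

* `BT.reindex`; `allIn_conj`;
* `exists_pos` : `HTwo.Entry.Pos T (T ⊔ X) V_l R 0 n z`.
-/

set_option autoImplicit false
set_option linter.dupNamespace false

namespace Cfsg.Agent.Omega.F4Leaf.Syl.PureC

open Subgroup Pointwise Cfsg Cfsg.Agent Cfsg.Agent.Omega.MinPar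
open Cfsg.Agent.ZN (o2 zc zl)
open Cfsg.Agent.Omega.FrameFF (cv)
open Cfsg.Agent.Omega.Frame (Full)
open Cfsg.Agent.Omega.FrameLE (AllIn)
open Cfsg.Agent.Omega.S5.Def Cfsg.Agent.Omega.F4Leaf.Def
open Cfsg.Agent.Omega.NSix.Base Cfsg.Agent.Omega.NSix.Basic
open Cfsg.Agent.Omega.HT.LineOf (Ln ln pts dd)
open Cfsg.Agent.Omega.BTwo (BT BTS XX CenX QQ)
open Cfsg.Agent.Omega.F4Leaf.TSyl
open Cfsg.Agent.Omega.HT.OtCore (OtD)
open Cfsg.Agent.MinSimple.VModule (mem_zc zc_le)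

universe u

variable {G : Type u} [Group G]

theorem bt_reindex {ι κ : Type*} {V : Subgroup G} {R : ι → Subgroup G} (b : BT V R) (e : κ ≃ ι) :
    BT V (fun i => R (e i)) where
  V_comm := b.V_comm
  V_sq := b.V_sq
  R_le i := b.R_le _
  R_inf i j hij := b.R_inf _ _ (e.injective.ne hij)
  R_sup i j hij := b.R_sup _ _ (e.injective.ne hij)
  R_cov v hv := by
    obtain ⟨i, hi⟩ := b.R_cov v hv
    exact ⟨e.symm i, by rwa [Equiv.apply_symm_apply]⟩
  R_ne i := b.R_ne _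
  third i j := by
    obtain ⟨k, h1, h2⟩ := b.third (e i) (e j)
    refine ⟨e.symm k, fun h => h1 ?_, fun h => h2 ?_⟩
    · rw [← h, Equiv.apply_symm_apply]
    · rw [← h, Equiv.apply_symm_apply]
  perm g hg i := by
    obtain ⟨j, hj⟩ := b.perm g hg (e i)
    exact ⟨e.symm j, by rw [Equiv.apply_symm_apply]; exact hj⟩
  V_Q i := b.V_Q _
  QV i := b.QV _
  QR i := b.QR _
  mt i := by
    obtain ⟨h, hh, h1⟩ := b.mt (e i)
    exact ⟨h, hh, fun j k hj hk => h1 _ _ (e.injective.ne hj) (e.injective.ne hk)⟩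

variable [Finite G]

theorem allIn_conj {S T : Sylow 2 G} (h : AllIn (S : Subgroup G)) : AllIn (T : Subgroup G) := by
  obtain ⟨y, hy⟩ := MulAction.exists_smul_eq G S T
  have hS : ZN.ChoiceBase.cj y (S : Subgroup G) = (T : Subgroup G) := by
    rw [← hy]; rfl
  have e1 : ZN.ChoiceBase.cj y⁻¹ (T : Subgroup G) = (S : Subgroup G) := by rw [← hS, ZN.ChoiceBase.cj_inv_cj]
  intro P hP
  have h1 := IId.isParS_cj hP y⁻¹
  rw [e1] at h1
  have h2 := ZN.ChoiceBase.cj_mono y (h _ h1)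
  have e2 : zc (ZN.ChoiceBase.cj y (S : Subgroup G)) = ZN.ChoiceBase.cj y (zc (S : Subgroup G)) :=
    ZN.zc_map _ (MulAut.conj y).injective _
  rw [← IId.zl_cj, ZN.ChoiceBase.cj_cj_inv, hS, ← ZN.ChoiceSit.o2_cj] at h2
  refine h2.trans_eq ?_
  congr 1
  change ZN.ChoiceBase.cj y (centralizer (zc (S : Subgroup G) : Set G)) = centralizer (zc (T : Subgroup G) : Set G)
  rw [ZN.ChoiceBase.cj_centralizer, ← e2, hS]

/-- the position over a Sylow 2-subgroup of `G` -/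
theorem pos_of_htt {S₁ : Sylow 2 G} {T P' V : Subgroup G} {R : Fin 3 → Subgroup G} {r z : G}
    (hTS : T = (S₁ : Subgroup G)) (htt : HT.HTT T P' V R 0) (hr1 : r ≠ 1) (hrr : r * r = 1)
    (hr : ∀ x, x ∈ R 0 ↔ x = 1 ∨ x = r) (hz : z ∈ zc T ⊓ centralizer (P' : Set G)) (hz1 : z ≠ 1) :
    ∃ (ι : Type u) (R : ι → Subgroup G) (o : ι), HTwo.Entry.Pos S₁ P' V R o r z := by
  subst hTS
  exact ⟨ULift (Fin 3), fun k => R (Equiv.ulift k), ⟨0⟩,
    { toBT := bt_reindex htt.toBT Equiv.ulift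
      card_R := fun k => htt.card_R _
      char2 := htt.char2
      S_V := htt.S_V
      S_R := htt.S_R
      S_P := htt.S_P
      P_V := htt.P_V
      P_trans := fun k => htt.P_trans _
      P_Z := htt.P_Z
      r_ne := hr1
      r_sq := hrr
      r_iff := hr
      z_mem := hz
      z_ne := hz1 }⟩

variable {S : Sylow 2 G} {P : Subgroup G} {m : ℕ} {A : Subgroup G}
  {ε : (Fin (2 ^ m + 1) → ZMod 2) → G} {i j : Fin (2 ^ m + 1)} {T : Subgroup G}

/-- **the position**, pure case, `n` 2-central -/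
theorem exists_pos (b : Fr S P m A ε i j T) (hcv : cv (S : Subgroup G) P ≠ ⊥)
    (hn : ∃ T₀ : Sylow 2 G, (T₀ : Subgroup G) ≤ centralizer {rr ε i j}) :
    ∃ (S' : Sylow 2 G) (P' V : Subgroup G) (ι : Type u) (R : ι → Subgroup G) (o : ι) (r z : G),
      HTwo.Entry.Pos S' P' V R o r z := by
  have hE := b.sit.split.even
  have hL := line b.sit b.ij b.i0 b.j0
  have hr1 : rr ε i j ≠ 1 := b.otln.r_ne
  obtain ⟨S₁, hS₁⟩ := b.p.exists_le_sylow
  -- `T` is Sylow in `G`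
  have hTS : T = (S₁ : Subgroup G) := by
    obtain ⟨T₀, hT₀⟩ := hn
    have h1 := HT.card_dvd_card b.leN b.odd T₀.isPGroup' hT₀
    have h2 := Nat.le_of_dvd Nat.card_pos h1
    have h3 : Nat.card (T₀ : Subgroup G) = Nat.card (S₁ : Subgroup G) := by
      rw [T₀.card_eq_multiplicity, S₁.card_eq_multiplicity]
    exact Subgroup.eq_of_le_of_card_ge hS₁ (by rw [← h3]; exact h2)
  -- `z`
  have hr : rr ε i j ∈ zc T := by
    refine mem_zc.2 ⟨b.otln.V_le_T (hL.dd_mem 0), fun t ht => b.otln.T_r ht, ?_⟩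
    rw [pow_two]; exact rr_sq hE i j
  have hcard : 4 ≤ Nat.card (zc T) := by
    have h1 := b.sit.split.card_zc b.sit.c2 b.sit.par (by have := b.m3; omega)
    have h2 : 2 ≤ Nat.card (cv (S : Subgroup G) P) := by
      have h3 : Nat.card (cv (S : Subgroup G) P) ≠ 1 := fun h4 => hcv (Subgroup.card_eq_one.1 h4)
      have h4 : 0 < Nat.card (cv (S : Subgroup G) P) := Nat.card_pos
      omega
    obtain ⟨g, hg⟩ : ∃ g : G, g • S = S₁ := MulAction.exists_smul_eq G S S₁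
    have h5 : Nat.card (zc T) = Nat.card (zc (S : Subgroup G)) := by
      rw [hTS, ← hg, NSix.NoTk.coe_smul]
      have h6 : zc (ZN.ChoiceBase.cj g (S : Subgroup G)) = ZN.ChoiceBase.cj g (zc (S : Subgroup G)) :=
        ZN.zc_map (MulAut.conj g).toMonoidHom (MulAut.conj g).injective _
      rw [h6]
      exact ZN.ChoiceBase.card_cj g _
    omega
  obtain ⟨x, hx, hxr⟩ : ∃ x ∈ zc T, x ∉ zpowers (rr ε i j) := by
    by_contra h1
    push Not at h1
    have h2 : zc T ≤ zpowers (rr ε i j) := h1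
    have h4 := Nat.le_of_dvd Nat.card_pos (card_dvd_of_le h2)
    rw [HT.LineOf.card_zp (rr_sq hE i j) hr1] at h4
    omega
  obtain ⟨w, hwQ, hw⟩ := b.otln.exists_w
  obtain ⟨z, hz, hzX, hz1⟩ : ∃ z ∈ zc T, z ∈ CenX (ln hL) (pts (rr ε i j) (rr ε i 0)) ∧ z ≠ 1 := by
    rcases dec b.sit b.ij b.i0 b.j0 b.part (b.otln.zc_le_zl hx) (b.sit.o2_le_P b.ij hwQ) hw
      ((mem_zc.1 hx).2.1 w (b.otln.Qn_T hwQ)) with h2 | h2
    · exact ⟨x, hx, h2, fun h3 => hxr (by rw [h3]; exact one_mem _)⟩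
    · refine ⟨x * rr ε i j, mul_mem hx hr, h2, fun h3 => hxr ?_⟩
      rw [eq_inv_of_mul_eq_one_left h3]
      exact inv_mem (mem_zpowers _)
  obtain ⟨ι, R, o, hp⟩ := pos_of_htt hTS b.otln.htt hr1 (rr_sq hE i j) (fun _ => hL.mem_pts)
    (OtD.mem_Z0 hz hzX) hz1
  exact ⟨S₁, _, _, ι, R, o, _, z, hp⟩

end Cfsg.Agent.Omega.F4Leaf.Syl.PureC

end
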