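import Cfsg.Agent.Mrg.Omega.F4Leaf.Big.OneZ
import Cfsg.Agent.Mrg.Omega.HT.Main
import Cfsg.Agent.Mrg.Omega.F4Leaf.Pos
import Cfsg.Agent.Mrg.Omega.NSix.TkPair
import Cfsg.Agent.Mrg.Omega.HT.Sig

section


/-!
# LeafF4, `m ≥ 3`, MemH2 over `T₁`, `C_S(n) ≤ T₁ ≤ N(V_l)` (bb OMEGA #20615, #21183): the frame

`n = r_ij`, `V_l = {1, r_ij, r_i0, r_j0}`, `Q_p = O₂(C_G(p))`.

* `line`, `line_le` : the structure `Ln`, `V_l ≤ A`;
* `Part A ε i j` : a partner `A ^ k`, `k ∈ C_G(n)`; `part_pt` : the partner at every point;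
* `bt` : the structure `BT`;
* `comm_Q` : `ε x` with `x i = x j` commutes with `O₂(C_G(n))`;
* `Base T`, `Fr T` : the frames; `Fr` is `Base` with the partner and `T` Sylow in `C_G(n)`.
-/

set_option autoImplicit false
set_option linter.dupNamespace false

namespace Cfsg.Agent.Omega.F4Leaf.TSyl

open Subgroup Pointwise Cfsg Cfsg.Agent Cfsg.Agent.Omega.MinPar
open Cfsg.Agent.ZN (o2 zc zl)
open Cfsg.Agent.Omega.FrameFF (cv)
open Cfsg.Agent.Omega.S5.Def Cfsg.Agent.Omega.S5.Syl Cfsg.Agent.Omega.F4Leaf.Def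
open Cfsg.Agent.Omega.F4Leaf.Pos Cfsg.Agent.Omega.F4Leaf.Facts
open Cfsg.Agent.Omega.NSix.Base Cfsg.Agent.Omega.NSix.Basic Cfsg.Agent.Omega.NSix.FixApp
open Cfsg.Agent.Omega.NSix.RThree (acts_swap')
open Cfsg.Agent.Omega.NSix.Zero (WP mem_WP WP_norm WP_conj)
open Cfsg.Agent.Omega.HT.LineOf (Ln ln pts dd)
open Cfsg.Agent.Omega.BTwo (BT XX)
open Cfsg.Agent.MinSimple.VModule (o2_isPGroup o2_le le_o2 le_normalizer_o2 o2_le_of_sylow mem_zc zc_le
  le_normalizer_zl zl_comm zl_sq)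

universe u

variable {G : Type u} [Group G]

/-- a partner `A ^ k` of `A` in `C_G(r_ij)` -/
def Part {n : ℕ} (A : Subgroup G) (ε : (Fin n → ZMod 2) → G) (i j : Fin n) : Prop :=
  ∃ k ∈ NN ε i j, ∃ v ∈ A, ∃ w ∈ A, v * (k * w * k⁻¹) ≠ k * w * k⁻¹ * v

variable [Finite G] {S : Sylow 2 G} {P : Subgroup G} {m : ℕ} {A : Subgroup G}
  {ε : (Fin (2 ^ m + 1) → ZMod 2) → G}

section sit

variable (h : Sit S P m A ε)
include h

/-- `ε x` with `x i = x j` commutes with `O₂(C_G(r_ij))` -/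
theorem comm_Q {i j : Fin (2 ^ m + 1)} (hij : i ≠ j) {x : Fin (2 ^ m + 1) → ZMod 2} (hx : x i = x j) {q : G}
    (hq : q ∈ o2 (NN ε i j)) : q * ε x = ε x * q := by
  rw [← mul_inv_eq_iff_eq_mul]
  rcases h.acts hij hq with h1 | h1
  · exact h1 x
  · exact (acts_swap' h.split.even h1 x).1 hx

theorem n3 : 3 ≤ 2 ^ m + 1 := h.three

theorem line {i j : Fin (2 ^ m + 1)} (hij : i ≠ j) (hi : i ≠ 0) (hj : j ≠ 0) : Ln (rr ε i j) (rr ε i 0) where
  aa := rr_sq h.split.even i j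
  bb := rr_sq h.split.even i 0
  comm := h.split.even.comm_mem (rr_mem h.split.even i j) (rr_mem h.split.even i 0)
  a1 := rr_ne_one h.split.even h.three hij
  b1 := rr_ne_one h.split.even h.three hi
  ne := fun e => by
    have h1 : rr ε j 0 = 1 := by
      rw [← rr_add h.split.even j i 0, rr_symm h.split.even j i, e, rr_sq h.split.even]
    exact rr_ne_one h.split.even h.three hj h1

theorem dd_two (i j : Fin (2 ^ m + 1)) : rr ε i j * rr ε i 0 = rr ε j 0 := by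
  rw [rr_symm h.split.even i j, rr_add h.split.even]

/-- the three points -/
theorem dd_cases {i j : Fin (2 ^ m + 1)} (hij : i ≠ j) (hi : i ≠ 0) (hj : j ≠ 0) (s : Fin 3) :
    ∃ a b c : Fin (2 ^ m + 1), a ≠ b ∧ a ≠ c ∧ b ≠ c ∧ dd (rr ε i j) (rr ε i 0) s = rr ε a b ∧
      (∃ t, dd (rr ε i j) (rr ε i 0) t = rr ε a c) ∧ (a = i ∨ a = j ∨ a = 0) ∧ (b = i ∨ b = j ∨ b = 0) := by
  fin_cases s
  · exact ⟨i, j, 0, hij, hi, hj, rfl, ⟨1, rfl⟩, Or.inl rfl, Or.inr (Or.inl rfl)⟩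
  · exact ⟨i, 0, j, hi, hij, hj.symm, rfl, ⟨0, rfl⟩, Or.inl rfl, Or.inr (Or.inr rfl)⟩
  · exact ⟨j, 0, i, hj, hij.symm, hi.symm, dd_two h i j, ⟨0, rr_symm h.split.even i j⟩, Or.inr (Or.inl rfl),
      Or.inr (Or.inr rfl)⟩

theorem dd_mem_A {i j : Fin (2 ^ m + 1)} (hij : i ≠ j) (hi : i ≠ 0) (hj : j ≠ 0) (s : Fin 3) :
    dd (rr ε i j) (rr ε i 0) s ∈ A := by
  obtain ⟨a, b, c, -, -, -, e, -⟩ := dd_cases h hij hi hj s
  rw [e]; exact rr_mem h.split.even a b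

theorem line_le {i j : Fin (2 ^ m + 1)} (hij : i ≠ j) (hi : i ≠ 0) (hj : j ≠ 0) : ln (line h hij hi hj) ≤ A := by
  rintro x (rfl | ⟨s, rfl⟩)
  · exact one_mem _
  · exact dd_mem_A h hij hi hj s

/-- the partner at a point -/
theorem part_pt {i j : Fin (2 ^ m + 1)} (hij : i ≠ j) (hP : Part A ε i j) {p q r : Fin (2 ^ m + 1)} (hpq : p ≠ q)
    (hpr : p ≠ r) (hqr : q ≠ r) :
    ∃ k ∈ NN ε p q, Acts ε (k * rr ε p r * k⁻¹) (Equiv.swap p q) := by
  have hE := h.split.even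
  obtain ⟨k0, hk0, v0, hv0, w0, hw0, hne0⟩ := hP
  obtain ⟨σ, e1, e2, -⟩ := exists_perm hij hpq
  obtain ⟨g, hgP, hg⟩ := hE.full σ
  have hgA := acts_norm hE hg
  obtain ⟨k, hk⟩ : ∃ k, k = g * k0 * g⁻¹ := ⟨_, rfl⟩
  obtain ⟨w, hw⟩ : ∃ w, w = g * w0 * g⁻¹ := ⟨_, rfl⟩
  have hkN : k ∈ NN ε p q := by
    have := conj_NN hg hk0
    rwa [e1, e2, ← hk] at this
  have hwA : w ∈ A := by
    rw [hw]; exact (mem_normalizer_iff.1 hgA w0).1 hw0
  obtain ⟨x, rfl⟩ := hE.surj w hwA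
  have hvA : g * v0 * g⁻¹ ∈ A := (mem_normalizer_iff.1 hgA v0).1 hv0
  have hne : ¬ k * ε x * k⁻¹ ∈ centralizer (A : Set G) := by
    intro h1
    apply hne0
    have h2 := mem_centralizer_iff.1 h1 _ hvA
    rw [hk, hw] at h2
    have h3 : g * (v0 * (k0 * w0 * k0⁻¹)) * g⁻¹ = g * (k0 * w0 * k0⁻¹ * v0) * g⁻¹ := by
      calc g * (v0 * (k0 * w0 * k0⁻¹)) * g⁻¹
          = g * v0 * g⁻¹ * (g * k0 * g⁻¹ * (g * w0 * g⁻¹) * (g * k0 * g⁻¹)⁻¹) := by group
        _ = g * k0 * g⁻¹ * (g * w0 * g⁻¹) * (g * k0 * g⁻¹)⁻¹ * (g * v0 * g⁻¹) := h2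
        _ = g * (k0 * w0 * k0⁻¹ * v0) * g⁻¹ := by group
    exact mul_left_cancel (mul_right_cancel h3)
  have hQ : ∀ a ∈ A, k * a * k⁻¹ ∈ o2 (NN ε p q) := fun a ha =>
    (mem_normalizer_iff.1 (le_normalizer_o2 _ hkN) a).1 (h.V_le hpq (h.split.A_le ha))
  have hact := (h.acts hpq (hQ _ hwA)).resolve_left fun h1 => hne (hE.acts_one_iff.1 h1)
  have hcen : ∀ y : Fin (2 ^ m + 1) → ZMod 2, y p = y q → k * ε y * k⁻¹ ∈ centralizer (A : Set G) := by
    intro y hy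
    rw [mem_centralizer_iff]
    intro a ha
    have hak : k⁻¹ * a * k ∈ o2 (NN ε p q) := by
      have := (mem_normalizer_iff.1 (le_normalizer_o2 _ (inv_mem hkN)) a).1 (h.V_le hpq (h.split.A_le ha))
      rwa [inv_inv] at this
    have h1 := comm_Q h hpq hy hak
    calc a * (k * ε y * k⁻¹) = k * (k⁻¹ * a * k * ε y) * k⁻¹ := by group
      _ = k * (ε y * (k⁻¹ * a * k)) * k⁻¹ := by rw [h1]
      _ = k * ε y * k⁻¹ * a := by group
  have hx : x p ≠ x q := fun h1 => hne (hcen x h1)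
  have hr : rr ε p r = ε (Pi.single p 1 + Pi.single r 1) := by rw [hE.add]; rfl
  refine ⟨k, hkN, ?_⟩
  have hz2 : ∀ a b c d : ZMod 2, a ≠ b → c ≠ d → a + c = b + d := by decide
  have h1 : k * ε (x + (Pi.single p 1 + Pi.single r 1)) * k⁻¹ ∈ centralizer (A : Set G) := by
    refine hcen _ ?_
    refine hz2 _ _ _ _ hx ?_
    rw [Pi.add_apply, Pi.add_apply, Pi.single_eq_same, Pi.single_eq_of_ne hpr, Pi.single_eq_of_ne hpq.symm,
      Pi.single_eq_of_ne hqr]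
    decide
  have h2 := hact.mul (hE.acts_one_iff.2 h1)
  rw [mul_one] at h2
  have e : k * ε x * k⁻¹ * (k * ε (x + (Pi.single p 1 + Pi.single r 1)) * k⁻¹) = k * rr ε p r * k⁻¹ := by
    rw [hr, hE.add]
    calc k * ε x * k⁻¹ * (k * (ε x * ε (Pi.single p 1 + Pi.single r 1)) * k⁻¹)
        = k * (ε x * ε x) * ε (Pi.single p 1 + Pi.single r 1) * k⁻¹ := by group
      _ = _ := by rw [hE.sq, mul_one]
  rwa [e] at h2

/-- some `WP` moves `A` -/
theorem mov_of_part {i j : Fin (2 ^ m + 1)} (hij : i ≠ j) (hP : Part A ε i j) :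
    ∃ i j, i ≠ j ∧ ∃ g ∈ WP ε i j, ¬ g ∈ centralizer (A : Set G) := by
  have hE := h.split.even
  obtain ⟨k, hk, v, hv, w, hw, hne⟩ := hP
  refine ⟨i, j, hij, k * w * k⁻¹, WP_norm hk (h.fac.mem_wp hij hw), fun h1 => hne ?_⟩
  exact mem_centralizer_iff.1 h1 v hv

/-- the structure `BT` -/
theorem bt {i j : Fin (2 ^ m + 1)} (hij : i ≠ j) (hi : i ≠ 0) (hj : j ≠ 0) (hP : Part A ε i j) :
    BT (ln (line h hij hi hj)) (pts (rr ε i j) (rr ε i 0)) := by
  have hE := h.split.even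
  refine (line h hij hi hj).bt (fun s => ?_) (fun s g hg t => ?_) (fun s => ?_)
  · obtain ⟨a, b, c, hab, -, -, e, -⟩ := dd_cases h hij hi hj s
    rw [e]
    exact (line_le h hij hi hj).trans (h.split.A_le.trans (h.V_le hab))
  · obtain ⟨a, b, c, hab, -, -, e, -⟩ := dd_cases h hij hi hj s
    rw [e] at hg
    rw [(line h hij hi hj).mem_pts, e]
    have ht := dd_mem_A h hij hi hj t
    rcases h.conj_V hab hg (h.split.A_le ht) with h1 | h1
    · left; rw [h1, mul_inv_cancel]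
    · right
      rw [h1, hE.comm_mem ht (rr_mem hE a b), mul_inv_cancel_right]
  · obtain ⟨a, b, c, hab, hac, hbc, e, ⟨t, ht⟩, -⟩ := dd_cases h hij hi hj s
    obtain ⟨k, hk, hkA⟩ := part_pt h hij hP hab hac hbc
    refine ⟨k, by rw [e]; exact hk, t, t, fun h4 => ?_⟩
    rw [ht] at h4
    have hr : rr ε a c = ε (Pi.single a 1 + Pi.single c 1) := by rw [hE.add]; rfl
    have h5 := (acts_swap' hE hkA (Pi.single a 1 + Pi.single c 1)).2 (by
      rw [Pi.add_apply, Pi.add_apply, Pi.single_eq_same, Pi.single_eq_of_ne hac, Pi.single_eq_of_ne hab.symm,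
        Pi.single_eq_of_ne hbc]
      decide)
    rw [← hr, h4, mul_inv_cancel_right] at h5
    exact rr_ne_one hE h.three hab (left_eq_mul.1 h5)

end sit

/-- the frame without partner: a 2-group `T` with `C_S(n) ≤ T ≤ C_G(n) ∩ N(V_l)` -/
structure Base (S : Sylow 2 G) (P : Subgroup G) (m : ℕ) (A : Subgroup G)
    (ε : (Fin (2 ^ m + 1) → ZMod 2) → G) (i j : Fin (2 ^ m + 1)) (T : Subgroup G) : Prop where
  sit : Sit S P m A ε
  m3 : 3 ≤ m
  ij : i ≠ j
  i0 : i ≠ 0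
  j0 : j ≠ 0
  duad : ∃ s ∈ (S : Subgroup G), Acts ε s (Equiv.swap i j)
  mov : ∃ i j, i ≠ j ∧ ∃ g ∈ WP ε i j, ¬ g ∈ centralizer (A : Set G)
  le : (S : Subgroup G) ⊓ NN ε i j ≤ T
  leN : T ≤ NN ε i j
  nrm : T ≤ normalizer (ln (line sit ij i0 j0) : Set G)
  p : IsPGroup 2 T

/-- the frame with partner, `T` Sylow in `C_G(n)` -/
structure Fr (S : Sylow 2 G) (P : Subgroup G) (m : ℕ) (A : Subgroup G)
    (ε : (Fin (2 ^ m + 1) → ZMod 2) → G) (i j : Fin (2 ^ m + 1)) (T : Subgroup G) : Prop extends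
    Base S P m A ε i j T where
  part : Part A ε i j
  odd : ¬ 2 ∣ T.relIndex (NN ε i j)

end Cfsg.Agent.Omega.F4Leaf.TSyl

end

section


/-!
# LeafF4, `m ≥ 3` (MemH2), `T` Sylow in `C_G(n)`: the `Σ`-step and the `Y`-step

`n = r_ij`, `i, j ≠ 0`, `V_l = {1, r_ij, r_i0, r_j0}`.

* `sig` : `Sig V_l R o c` with `c ∈ V` centralised by elements acting as `(i j)` and `(i 0)` implies
  `c = v z_0 r_ij` with `v ∈ V₀`;
* `yv` : `V_l` centralises `⟨r_ij ^ C(c r_ij)⟩` for this `c`  (`m ≥ 3`).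
-/

set_option autoImplicit false
set_option linter.unusedSectionVars false

namespace Cfsg.Agent.Omega.F4Leaf.TSyl.Sg

open Subgroup Cfsg Cfsg.Agent
open Cfsg.Agent.ZN (o2 zc zl)
open Cfsg.Agent.Omega.FrameFF (cv)
open Cfsg.Agent.Omega.S5.Def Cfsg.Agent.Omega.F4Leaf.Def Cfsg.Agent.Omega.F4Leaf.Pos
open Cfsg.Agent.Omega.NSix.Base Cfsg.Agent.Omega.NSix.Basic Cfsg.Agent.Omega.NSix.FixApp
open Cfsg.Agent.Omega.NSix.TkPair (rr_eq rr_ne)
open Cfsg.Agent.Omega.HTwo.Hat (ZQ)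

universe u

variable {G : Type u} [Group G] [Finite G] {S : Sylow 2 G} {P : Subgroup G} {m : ℕ} {A : Subgroup G}
  {ε : (Fin (2 ^ m + 1) → ZMod 2) → G} (h : Sit S P m A ε)
include h

theorem five : 5 ≤ 2 ^ m + 1 := by
  have h1 : 2 ^ 2 ≤ 2 ^ m := Nat.pow_le_pow_right (by norm_num) h.m2
  omega

/-- a coordinate outside of three given ones -/
theorem exists_ne (a b c : Fin (2 ^ m + 1)) : ∃ k, k ≠ a ∧ k ≠ b ∧ k ≠ c := by
  have hcard : ({a, b, c} : Finset (Fin (2 ^ m + 1))).card < (Finset.univ : Finset (Fin (2 ^ m + 1))).card := by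
    rw [Finset.card_univ, Fintype.card_fin]
    have := five h
    exact lt_of_le_of_lt Finset.card_le_three (by omega)
  obtain ⟨k, -, hk⟩ := Finset.exists_mem_notMem_of_card_lt_card hcard
  simp only [Finset.mem_insert, Finset.mem_singleton, not_or] at hk
  exact ⟨k, hk⟩

/-- `ε x` is fixed by a transposition `(a b)` only if `x a = x b` -/
theorem eq_of_fix {a b : Fin (2 ^ m + 1)} {t : G} (ht : Acts ε t (Equiv.swap a b)) {x : Fin (2 ^ m + 1) → ZMod 2}
    (hx : t * ε x = ε x * t) : x a = x b := by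
  have h1 : ε (x ∘ (Equiv.swap a b : Equiv.Perm _).symm) = ε x := by
    rw [← ht x, hx, mul_inv_cancel_right]
  rcases h.split.even.eq_iff.1 h1 with h2 | h2
  · have h3 := congrFun h2 b
    simpa using h3
  · exfalso
    obtain ⟨k, hka, hkb, -⟩ := exists_ne h a b a
    have h3 := congrFun h2 k
    rw [Function.comp_apply, Equiv.symm_swap, Equiv.swap_apply_of_ne_of_ne hka hkb, Pi.add_apply, Pi.one_apply] at h3
    have h4 : x k + 0 = x k + 1 := by rw [add_zero]; exact h3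
    exact zero_ne_one (add_left_cancel h4)

/-- **the `Σ`-step** -/
theorem sig {i j : Fin (2 ^ m + 1)} (hij : i ≠ j) (hi0 : i ≠ 0) (hj0 : j ≠ 0) {ι : Type*} {V : Subgroup G}
    {R : ι → Subgroup G} {o : ι} (hR : ∀ x, x ∈ R o ↔ x = 1 ∨ x = rr ε i j) (hV0 : rr ε i 0 ∈ V)
    (hV : ∀ v ∈ V, v = 1 ∨ v = rr ε i j ∨ v = rr ε i 0 ∨ v = rr ε j 0) (hZQ : ∀ v ∈ Vn ε i j, v ∈ ZQ R o)
    {c t x : G} (hcV : c ∈ zl (S : Subgroup G) P) (htP : t ∈ P) (ht : Acts ε t (Equiv.swap i j)) (htc : t * c = c * t)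
    (hxP : x ∈ P) (hx : Acts ε x (Equiv.swap i 0)) (hxc : x * c = c * x) (hs : HT.Sig V R o c) :
    ∃ v ∈ cv (S : Subgroup G) P, c = v * zz ε 0 * rr ε i j := by
  have hE := h.split.even
  have h5 := five h
  have h11 : (1 : ZMod 2) + 1 = 0 := by decide
  obtain ⟨v, hv, a, ha, hc⟩ := h.mul_eq hcV
  have hvc : ∀ g ∈ P, g * v = v * g := fun g hg => h.V0_comm hv hg
  obtain ⟨y, hy, hy0⟩ : ∃ y, ε y = a ∧ y 0 = 1 := by
    obtain ⟨y, rfl⟩ := hE.surj a ha
    rcases (show ∀ b : ZMod 2, b = 0 ∨ b = 1 by decide) (y 0) with h0 | h0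
    · refine ⟨y + 1, hE.eq_iff.2 (Or.inr rfl), ?_⟩
      rw [Pi.add_apply, h0, zero_add, Pi.one_apply]
    · exact ⟨y, rfl, h0⟩
  have hcom : ∀ g ∈ P, g * c = c * g → g * ε y = ε y * g := by
    intro g hg hgc
    rw [hc, ← hy] at hgc
    have h1 := hvc g hg
    calc g * ε y = v⁻¹ * (v * g) * ε y := by group
      _ = v⁻¹ * (g * v) * ε y := by rw [h1]
      _ = v⁻¹ * (g * (v * ε y)) := by group
      _ = v⁻¹ * (v * ε y * g) := by rw [hgc]
      _ = ε y * g := by group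
  have hyi : y i = 1 := by rw [eq_of_fix h hx (hcom x hxP hxc), hy0]
  have hyj : y j = 1 := by rw [← eq_of_fix h ht (hcom t htP htc), hyi]
  have hyk : ∀ k, k ≠ i → k ≠ j → k ≠ 0 → y k = 0 := by
    intro k hki hkj hk0
    by_contra hne
    have hyk : y k = 1 := ((show ∀ b : ZMod 2, b = 0 ∨ b = 1 by decide) (y k)).resolve_left hne
    obtain ⟨g, hgP, hg⟩ := hE.full (Equiv.swap k 0)
    have hsi : Equiv.swap k 0 i = i := Equiv.swap_apply_of_ne_of_ne hki.symm hi0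
    have hsj : Equiv.swap k 0 j = j := Equiv.swap_apply_of_ne_of_ne hkj.symm hj0
    have hgr : g * rr ε i j * g⁻¹ = rr ε i j := by rw [rr_conj hg, hsi, hsj]
    have hg0 : g * rr ε i 0 * g⁻¹ = rr ε i 0 * rr ε 0 k := by
      rw [rr_conj hg, hsi, Equiv.swap_apply_right, rr_add hE]
    have hgj0 : g * rr ε j 0 * g⁻¹ = rr ε j 0 * rr ε 0 k := by
      rw [rr_conj hg, hsj, Equiv.swap_apply_right, rr_add hE]
    have h0k : rr ε 0 k ∈ V ⊔ ZQ R o := mem_sup_right (hZQ _ (rr_mem_Vn ⟨hi0.symm, hj0.symm⟩ ⟨hki, hkj⟩))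
    have hgN : g ∈ normalizer (R o : Set G) := by
      refine mem_normalizer_iff.2 fun w => ?_
      rw [hR, hR]
      constructor
      · rintro (rfl | rfl)
        · left; group
        · right; exact hgr
      · rintro (hw | hw)
        · left
          calc w = g⁻¹ * (g * w * g⁻¹) * g := by group
            _ = 1 := by rw [hw]; group
        · right
          calc w = g⁻¹ * (g * w * g⁻¹) * g := by group
            _ = g⁻¹ * (g * rr ε i j * g⁻¹) * g := by rw [hw, hgr]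
            _ = rr ε i j := by group
    have hgv : g * v * g⁻¹ = v := by rw [hvc g hgP, mul_inv_cancel_right]
    have h1 := hs g hgN (fun w hw => ?_) (rr ε i 0) hV0 ?_
    · have e0 : rr ε i 0 * c = v * ε (Pi.single i 1 + Pi.single 0 1 + y) := by
        rw [hE.add, ← rr_eq hE, hc, ← hy]
        have h2 := hvc _ (h.A_le_P (rr_mem hE i 0))
        rw [← mul_assoc, h2, mul_assoc]
      have e2 : (Pi.single i 1 + Pi.single 0 1 + y : Fin (2 ^ m + 1) → ZMod 2) +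
          (Pi.single i 1 + Pi.single 0 1 + y) ∘ (Equiv.swap k 0).symm = Pi.single k 1 + Pi.single 0 1 := by
        funext q
        rw [Pi.add_apply, Function.comp_apply, Equiv.symm_swap]
        by_cases hq : q = k
        · subst hq
          rw [Equiv.swap_apply_left]
          simp [hki, hk0, hi0.symm, hyk, hy0, h11]
        · by_cases hq0 : q = 0
          · subst hq0
            rw [Equiv.swap_apply_right]
            simp [hki, hk0, hi0.symm, hyk, hy0, hk0.symm, h11]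
          · rw [Equiv.swap_apply_of_ne_of_ne hq hq0, CharTwo.add_self_eq_zero]
            simp [hq, hq0]
      have e1 : (rr ε i 0 * c)⁻¹ * g * (rr ε i 0 * c) * g⁻¹ = rr ε k 0 := by
        have e3 : rr ε k 0 = ε (Pi.single i 1 + Pi.single 0 1 + y) *
            (g * ε (Pi.single i 1 + Pi.single 0 1 + y) * g⁻¹) := by
          rw [hg, ← hE.add, e2, rr_eq hE]
        rw [e0, e3]
        have h3 : ∀ w : G, g * (v * w) * g⁻¹ = v * (g * w * g⁻¹) := fun w => by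
          calc g * (v * w) * g⁻¹ = (g * v * g⁻¹) * (g * w * g⁻¹) := by group
            _ = _ := by rw [hgv]
        have hww := hE.inv (Pi.single i 1 + Pi.single 0 1 + y)
        generalize ε (Pi.single i 1 + Pi.single 0 1 + y) = w at hww ⊢
        calc (v * w)⁻¹ * g * (v * w) * g⁻¹ = w⁻¹ * v⁻¹ * (g * (v * w) * g⁻¹) := by group
          _ = w⁻¹ * v⁻¹ * (v * (g * w * g⁻¹)) := by rw [h3]
          _ = w⁻¹ * (g * w * g⁻¹) := by group
          _ = w * (g * w * g⁻¹) := by rw [hww]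
      rw [e1] at h1
      rcases (hR _).1 h1 with h2 | h2
      · exact rr_ne_one hE h.three hk0 h2
      · exact rr_ne hE h5 hk0 hki.symm hkj.symm h2
    · rcases hV w hw with rfl | rfl | rfl | rfl
      · rw [mul_one, mul_inv_cancel]; exact one_mem _
      · rw [hgr]; exact mem_sup_left hw
      · rw [hg0]; exact mul_mem (mem_sup_left hw) h0k
      · rw [hgj0]; exact mul_mem (mem_sup_left hw) h0k
    · intro h2
      rcases (hR _).1 h2 with h3 | h3
      · exact rr_ne_one hE h.three hi0 h3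
      · rw [rr_symm hE i 0] at h3
        exact rr_ne hE h5 hi0.symm hi0 hj0 h3
  refine ⟨v, hv, ?_⟩
  have e : y = Pi.single 0 1 + (Pi.single i 1 + Pi.single j 1) := by
    funext q
    by_cases h1 : q = i
    · subst h1
      simp [hyi, hi0, hij]
    · by_cases h2 : q = j
      · subst h2
        simp [hyj, hj0, hij.symm]
      · by_cases h3 : q = 0
        · subst h3
          simp [hy0, hi0.symm, hj0.symm]
        · simp [hyk q h1 h2 h3, h1, h2, h3]
  rw [hc, ← hy, e, hE.add, ← rr_eq hE]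
  rw [mul_assoc]
  rfl

/-- **the `Y`-step** -/
theorem yv (hm : 3 ≤ m) {i j : Fin (2 ^ m + 1)} {v : G} (hv : v ∈ cv (S : Subgroup G) P) {V : Subgroup G}
    (hV : V ≤ zl (S : Subgroup G) P) : HT.Main.YV V (rr ε i j) (v * zz ε 0 * rr ε i j) := by
  have hE := h.split.even
  intro g hg w hw
  have e : v * zz ε 0 * rr ε i j * rr ε i j = v * zz ε 0 := by
    rw [mul_assoc, rr_sq hE, mul_one]
  rw [e] at hg
  have hgC : g ∈ centralizer ({v * zz ε 0} : Set G) := mem_centralizer_singleton_iff.2 hg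
  obtain ⟨h1, h2⟩ := h.cen_pt hm hv 0
  have hrV : rr ε i j ∈ zl (S : Subgroup G) P := h.split.A_le (rr_mem hE i j)
  have h3 : g⁻¹ * w * g ∈ o2 (centralizer ({v * zz ε 0} : Set G)) := by
    have := (mem_normalizer_iff.mp (MinSimple.VModule.le_normalizer_o2 _ (inv_mem hgC)) w).mp (h1 (hV hw))
    rwa [inv_inv] at this
  have h4 := mem_centralizer_iff.1 (h2 h3) _ hrV
  calc w * (g * rr ε i j * g⁻¹) = g * ((g⁻¹ * w * g) * rr ε i j) * g⁻¹ := by group
    _ = g * (rr ε i j * (g⁻¹ * w * g)) * g⁻¹ := by rw [h4]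
    _ = _ := by group

end Cfsg.Agent.Omega.F4Leaf.TSyl.Sg

end
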